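import Groth.Prelude.Def_AlphaP
import Groth.Prelude.Def_ConstGrp
import Groth.Agent.Lib.CentreTorus5.Main
import Groth.Agent.Lib.HopfAG.UnipPrim
import Groth.Agent.Lib.Flag27.BorelUnion
import Mathlib.RingTheory.Bialgebra.SymmetricAlgebra
import Mathlib.FieldTheory.Finite.Basic

/-!
# The centre of a reductive group contains neither `α_p` nor `ℤ/p`
-/

set_option autoImplicit false
set_option maxHeartbeats 1600000
set_option backward.isDefEq.respectTransparency false

universe u

open TensorProduct CategoryTheory CategoryTheory.Limits MonoidalCategory CartesianMonoidalCategory MonObj GrpObj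
open AlgebraicGeometry TopologicalSpace

namespace GrothLib.CentreNoUnip5

attribute [-instance] Hom.commGroup Hom.commMonoid CommGrpObj.toIsCommMonObj

variable {k : Type u} [Field k]

/-- An algebra generated by a primitive element is unipotent. -/
theorem isUnipotent_of_primitive {A : Type u} [CommRing A] [HopfAlgebra k A] (x : A)
    (hx : Coalgebra.comul (R := k) x = x ⊗ₜ[k] 1 + 1 ⊗ₜ[k] x) (hgen : Algebra.adjoin k {x} = ⊤) :
    HopfRep.IsUnipotent k A := by
  let φ : SymmetricAlgebra k k →ₐ[k] A := SymmetricAlgebra.lift (LinearMap.toSpanSingleton k A x)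
  have hφ : φ (SymmetricAlgebra.ι k k 1) = x := by simp [φ]
  let ψ : SymmetricAlgebra k k →ₐc[k] A := BialgHom.ofAlgHom φ
    (SymmetricAlgebra.algHom_ext (by
      ext
      simp [hφ, GrothLib.Unip.counit_of_primitive hx, SymmetricAlgebra.counit_ι]
      exact (SymmetricAlgebra.algebraMapInv_ι _).symm))
    (SymmetricAlgebra.algHom_ext (by
      ext
      simp [hφ, hx, SymmetricAlgebra.comul_ι]))
  refine GrothLib.Unip.isUnipotent_of_surjective' ψ ?_ GrothLib.Unip.isUnipotent_symmetricAlgebra
  have h : x ∈ φ.range := ⟨_, hφ⟩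
  have h' : (⊤ : Subalgebra k A) ≤ φ.range := by rw [← hgen]; exact Algebra.adjoin_le (by simpa using h)
  exact fun a => h' (Algebra.mem_top)

variable (p : ℕ) [Fact p.Prime] [CharP k p]

theorem alphaP_gen : Algebra.adjoin k {AlphaP.x p k} = ⊤ := by
  refine Subalgebra.toSubmodule_injective (top_unique ?_)
  rw [← (AlphaP.basis p k).span_eq, Submodule.span_le]
  rintro _ ⟨i, rfl⟩
  rw [AlphaP.basis_apply]
  exact pow_mem (Algebra.self_mem_adjoin_singleton k _) _

/-- The tautological function on the constant group `ℤ/p`. -/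
noncomputable def cst : ConstGrp.F k (Multiplicative (ZMod p)) :=
  fun g => ZMod.castHom (dvd_refl p) k (Multiplicative.toAdd g)

theorem cst_apply (g : Multiplicative (ZMod p)) :
    (cst p : ConstGrp.F k (Multiplicative (ZMod p))) g = ZMod.castHom (dvd_refl p) k (Multiplicative.toAdd g) := rfl

theorem comul_cst : Coalgebra.comul (R := k) (cst p : ConstGrp.F k (Multiplicative (ZMod p))) =
    cst p ⊗ₜ[k] 1 + 1 ⊗ₜ[k] cst p := by
  let c : Multiplicative (ZMod p) → k := fun g => ZMod.castHom (dvd_refl p) k (Multiplicative.toAdd g)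
  have hc : (cst p : ConstGrp.F k (Multiplicative (ZMod p))) = ∑ g, c g • ConstGrp.e k g := ConstGrp.eq_sum_smul_e _
  show ConstGrp.comulLin k _ _ = _
  rw [hc, map_sum]
  simp only [map_smul, ConstGrp.comulLin_e, Finset.smul_sum]
  rw [Finset.sum_comm]
  have h1 : ∀ a : Multiplicative (ZMod p), ∑ g, c g • (ConstGrp.e k a ⊗ₜ[k] ConstGrp.e k (a⁻¹ * g)) =
      ∑ b, (c a + c b) • (ConstGrp.e k a ⊗ₜ[k] ConstGrp.e k b) := fun a => by
    refine Fintype.sum_equiv (Equiv.mulLeft a⁻¹) _ _ fun g => ?_
    simp only [Equiv.coe_mulLeft, c, toAdd_mul, toAdd_inv, ← map_add, add_neg_cancel_left]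
  rw [Finset.sum_congr rfl fun a _ => h1 a]
  simp only [add_smul, Finset.sum_add_distrib]
  congr 1
  · rw [TensorProduct.sum_tmul]
    refine Finset.sum_congr rfl fun a _ => ?_
    rw [← ConstGrp.sum_e, TensorProduct.tmul_sum]
    exact Finset.sum_congr rfl fun b _ => by rw [TensorProduct.smul_tmul']
  · rw [Finset.sum_comm, TensorProduct.tmul_sum]
    refine Finset.sum_congr rfl fun b _ => ?_
    rw [← ConstGrp.sum_e, TensorProduct.sum_tmul]
    exact Finset.sum_congr rfl fun a _ => by rw [TensorProduct.tmul_smul]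

theorem cst_gen : Algebra.adjoin k {(cst p : ConstGrp.F k (Multiplicative (ZMod p)))} = ⊤ := by
  refine Subalgebra.toSubmodule_injective (top_unique ?_)
  rw [← (ConstGrp.basis k (Multiplicative (ZMod p))).span_eq, Submodule.span_le]
  rintro _ ⟨g, rfl⟩
  rw [ConstGrp.basis_apply]
  have h : ConstGrp.e k g = 1 - ((cst p : ConstGrp.F k (Multiplicative (ZMod p))) -
      algebraMap k _ (ZMod.castHom (dvd_refl p) k (Multiplicative.toAdd g))) ^ (p - 1) := by
    ext h
    rw [ConstGrp.sub_apply, ConstGrp.one_apply, ← ConstGrp.ev_apply (R := k) h ((_ - _) ^ (p - 1)), map_pow,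
      ConstGrp.ev_apply, ConstGrp.sub_apply, ConstGrp.algebraMap_apply, cst_apply, ← map_sub, ← map_pow,
      ConstGrp.e_apply]
    by_cases e : h = g
    · subst e
      have : p - 1 ≠ 0 := Nat.sub_ne_zero_of_lt (Fact.out : p.Prime).one_lt
      simp [zero_pow this]
    · rw [if_neg e, ZMod.pow_card_sub_one_eq_one (sub_ne_zero.2 fun h' => e (Multiplicative.toAdd.injective h')),
        map_one, sub_self]
  rw [h]
  exact sub_mem (one_mem (Algebra.adjoin k {(cst p : ConstGrp.F k (Multiplicative (ZMod p)))}))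
    (pow_mem (sub_mem (Algebra.self_mem_adjoin_singleton k _) (Subalgebra.algebraMap_mem _ _)) _)

omit [Fact p.Prime] [CharP k p] in
/-- Groups of multiplicative type descend along field extensions. -/
theorem isMultTypeFT_of_bc {K : Type u} [Field K] (f : Spec (CommRingCat.of K) ⟶ Spec (CommRingCat.of k))
    {T : Over (Spec (CommRingCat.of k))} [GrpObj T] (hT : SGA3x.IsMultTypeFT (Red.bc f T)) : SGA3x.IsMultTypeFT T := by
  obtain ⟨S'', π, hfl, hsurj, -, hloc⟩ := hT
  haveI := hfl; haveI := hsurj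
  haveI := GrothLib.Flag27.surjective_to_field f
  haveI : Surjective (π ≫ f) := inferInstance
  refine ⟨S'', π ≫ f, GrothLib.Flag27.flat_to_field _, inferInstance, fun V hV => ?_, fun s => ?_⟩
  · haveI : Subsingleton ↥(Spec (CommRingCat.of k)) := inferInstanceAs (Subsingleton (PrimeSpectrum k))
    by_cases hne : (V : Set ↥(Spec (CommRingCat.of k))).Nonempty
    · obtain ⟨v, hv⟩ := hne
      obtain ⟨x, hx⟩ := (π ≫ f).surjective v
      obtain ⟨W, hW, hxW, -⟩ := exists_isAffineOpen_mem_and_subset (X := S'') (x := x) (U := ⊤) trivial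
      refine ⟨W, hW.isCompact, Set.Subset.antisymm (fun y _ => ?_) fun y _ => ⟨x, hxW, Subsingleton.elim _ _⟩⟩
      rw [Subsingleton.elim y v]; exact hv
    · exact ⟨⊥, by simp, by simp [Set.not_nonempty_iff_eq_empty.1 hne]⟩
  · obtain ⟨U, hU, M, inst, hM, ⟨e⟩⟩ := hloc s
    exact ⟨U, hU, M, inst, hM, ⟨(GrothLib.DiagGrp.bcGrpComp T f (U.ι ≫ π) (U.ι ≫ π ≫ f) (by rw [Category.assoc])) ≪≫ e⟩⟩

omit [Fact p.Prime] [CharP k p] in
/-- The centre of a reductive group contains no non-trivial finite unipotent subgroup. -/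
theorem main {G Z : Over (Spec (CommRingCat.of k))} [GrpObj G] [GrpObj Z] (hG : Red.IsReductive G) {z : Z ⟶ G}
    (hz : Red.IsCentre z) {A : Type u} [CommRing A] [HopfAlgebra k A] [Module.Finite k A] (x : A)
    (hx : Coalgebra.comul (R := k) x = x ⊗ₜ[k] 1 + 1 ⊗ₜ[k] x) (hgen : Algebra.adjoin k {x} = ⊤) (hne : x ≠ 0)
    (φ : (Spec (CommRingCat.of A)).asOver (Spec (CommRingCat.of k)) ⟶ Z) (hφ : IsMonHom φ) (hmono : Mono φ.left) :
    False := by
  haveI := hφ
  obtain ⟨hGa, hGs, hGc⟩ := UnipFix19.props_of_isReductive hG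
  haveI := hGa; haveI := hGs; haveI := hGc
  obtain ⟨hzm, hzmono, -⟩ := id hz
  haveI := hzm; haveI := hzmono
  let H : Over (Spec (CommRingCat.of k)) := (Spec (CommRingCat.of A)).asOver (Spec (CommRingCat.of k))
  let g : H ⟶ G := φ ≫ z
  haveI : Mono φ := Over.mono_of_mono_left φ
  haveI : Mono g := inferInstanceAs (Mono (φ ≫ z))
  haveI : IsMonHom g := inferInstanceAs (IsMonHom (φ ≫ z))
  haveI : IsFinite H.hom := (IsFinite.SpecMap_iff _).2 (RingHom.finite_algebraMap.2 inferInstance)
  haveI : IsSeparated G.hom := GrpSchField.isSeparated G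
  haveI : IsClosedImmersion g.left := by
    haveI : IsFinite (g.left ≫ G.hom) := by rw [Over.w g]; infer_instance
    haveI : IsFinite g.left := IsFinite.of_comp g.left G.hom
    haveI : Mono g.left := inferInstanceAs (Mono ((Over.forget _).map g))
    exact (IsClosedImmersion.iff_isProper_and_mono _).2 ⟨inferInstance, inferInstance⟩
  let s : ↥(Spec (CommRingCat.of k)) := IsLocalRing.closedPoint k
  let π := Red.geomPt s
  obtain ⟨hKa, hKs, hKc, -⟩ := id (hG.2.2 s)
  haveI := hKa; haveI := hKs; haveI := hKc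
  obtain ⟨T, _, iT, hT⟩ := Flag27.exists_maxTorus (G := Red.bc π G)
  obtain ⟨hTm, hTmono, hTt, -⟩ := id hT
  haveI := hTm; haveI := hTmono
  obtain ⟨hTc, hTa, hTs, -⟩ := Flag27.torus_facts hTt iT
  haveI := hTc
  obtain ⟨t, ht⟩ := CentreTorus5.central_mem_torus (CentreTorus5.isReductive_of_over _ (hG.2.2 s)) iT hT
    ((Over.pullback π).map g) fun X' y h => by
      show (y ≫ (Over.pullback π).map (φ ≫ z)) * h = h * (y ≫ (Over.pullback π).map (φ ≫ z))
      rw [Functor.map_comp, ← Category.assoc]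
      exact CentreTorus5.bc_central π hz X' (y ≫ (Over.pullback π).map φ) h
  haveI : IsMonHom (t ≫ iT) := by rw [ht]; infer_instance
  haveI : IsMonHom t := Flag27.isMonHom_of_comp t iT
  haveI : IsClosedImmersion ((Over.pullback π).map g).left :=
    MorphismProperty.of_isPullback (Flag27.isPullback_map π g) ‹IsClosedImmersion g.left›
  haveI : IsClosedImmersion (t.left ≫ iT.left) := by rw [← Over.comp_left, ht]; infer_instance
  haveI : IsClosedImmersion t.left := IsClosedImmersion.of_comp t.left iT.left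
  haveI : LocallyOfFiniteType (Red.bc π H).hom := inferInstanceAs (LocallyOfFiniteType (pullback.snd H.hom π))
  haveI : IsNoetherianRing (CommRingCat.of (AlgebraicClosure ((Spec (CommRingCat.of k)).residueField s))) :=
    inferInstanceAs (IsNoetherianRing (AlgebraicClosure ((Spec (CommRingCat.of k)).residueField s)))
  have hKm : SGA3x.IsMultTypeFT (Red.bc π H) := DiagGrp.isMultTypeFT_of_flat_closed _ T
    (UnipFix19.isMultTypeFT_of_isTorus hTt) t ‹_› (DiagGrp.flat_of_field _) inferInstance
  have hu : MultUnip16.IsUnipGrp H :=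
    ⟨A, inferInstance, inferInstance, 𝟙 H, 𝟙 H, inferInstance, inferInstance, Category.id_comp _, Category.id_comp _,
      isUnipotent_of_primitive x hx hgen⟩
  have h1 : (𝟙 H : H ⟶ H) = 1 := hu.hom_eq_one (isMultTypeFT_of_bc π hKm) (𝟙 H)
  have h2 : Spec.map (CommRingCat.ofHom (RingHom.id A)) =
      Spec.map (CommRingCat.ofHom ((algebraMap k A).comp (Bialgebra.counitAlgHom k A).toRingHom)) := by
    have h3 := congrArg Over.Hom.left h1
    rw [Hom.one_def, Over.comp_left] at h3
    rw [CommRingCat.ofHom_comp, Spec.map_comp, show CommRingCat.ofHom (RingHom.id A) = 𝟙 _ from rfl, Spec.map_id]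
    refine (Over.id_left H).symm.trans (h3.trans ?_)
    rfl
  have h4 := congrArg (fun q => q.hom x) (Spec.map_injective h2)
  apply hne
  simpa [GrothLib.Unip.counit_of_primitive hx] using h4

end GrothLib.CentreNoUnip5
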